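import Groth.Agent.Coherent.K87.UBasMain
import Groth.Agent.Coherent.K87.UBasBC
import Groth.Agent.AgPol.K245.PushDet
import Groth.Prelude.Def_CohBC2

/-!
# Grauert's theorem in degree `0` with base change

`f : X ⟶ S` proper of finite presentation, `S` reduced, `F` of finite presentation and flat over `S` with
`h⁰(X_s, F_s) = r` for all `s`: `f_* F` is finite locally free of rank `r` and the degree `0` base change morphism
(`CohBC.bc0`) is an isomorphism for every cartesian square (`isFinLocFreeOfRank`, `isIso_bc0`).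
-/

set_option autoImplicit false
universe u

open CategoryTheory CategoryTheory.Limits AlgebraicGeometry Scheme.Modules

namespace K179.Grauert

open Groth.Agent

section Nat

variable {X S X' S' : Scheme.{u}} (f : X ⟶ S) (g : S' ⟶ S) (f' : X' ⟶ S') (g' : X' ⟶ X) (w : g' ≫ f = f' ≫ g)

theorem bc0Adj_natural {F F' : X.Modules} (φ : F ⟶ F') :
    CohBC.bc0Adj f g f' g' w F ≫ (pushforward g).map ((pushforward f').map ((Scheme.Modules.pullback g').map φ)) =
      (pushforward f).map φ ≫ CohBC.bc0Adj f g f' g' w F' := by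
  have h1 := (pullbackPushforwardAdjunction g').unit.naturality φ
  have h2 := (pushforwardComp g' f).hom.naturality ((Scheme.Modules.pullback g').map φ)
  have h3 := (pushforwardCongr w).hom.naturality ((Scheme.Modules.pullback g').map φ)
  have h4 := (pushforwardComp f' g).inv.naturality ((Scheme.Modules.pullback g').map φ)
  dsimp only [Functor.id_obj, Functor.id_map, Functor.comp_obj, Functor.comp_map] at h1 h2 h3 h4
  rw [CohBC.bc0Adj, CohBC.bc0Adj, Category.assoc, Category.assoc, Category.assoc, ← h4, ← reassoc_of% h3,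
    ← reassoc_of% h2, ← Functor.map_comp_assoc, ← Functor.map_comp_assoc, ← h1]

theorem bc0_natural {F F' : X.Modules} (φ : F ⟶ F') :
    CohBC.bc0 f g f' g' w F ≫ (pushforward f').map ((Scheme.Modules.pullback g').map φ) =
      (Scheme.Modules.pullback g).map ((pushforward f).map φ) ≫ CohBC.bc0 f g f' g' w F' := by
  rw [CohBC.bc0, CohBC.bc0, ← Adjunction.homEquiv_naturality_right_symm,
    ← Adjunction.homEquiv_naturality_left_symm, bc0Adj_natural]

theorem isIso_bc0_of_iso {F F' : X.Modules} (e : F ≅ F') (h : IsIso (CohBC.bc0 f g f' g' w F)) :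
    IsIso (CohBC.bc0 f g f' g' w F') := by
  have h1 := bc0_natural f g f' g' w e.hom
  have h2 : IsIso ((Scheme.Modules.pullback g).map ((pushforward f).map e.hom) ≫ CohBC.bc0 f g f' g' w F') := by
    rw [← h1]
    infer_instance
  exact IsIso.of_isIso_comp_left ((Scheme.Modules.pullback g).map ((pushforward f).map e.hom)) _

end Nat

theorem isIso_of_immersion {Z S : Scheme.{u}} (ι : Z ⟶ S) [IsImmersion ι] [IsReduced S] (h : Set.range ι = Set.univ) :
    IsIso ι := by
  have h1 : IsClosedImmersion ι := IsClosedImmersion.of_isPreimmersion ι (by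
    rw [h]
    exact isClosed_univ)
  have h2 : Surjective ι := ⟨Set.range_eq_univ.1 h⟩
  exact isIso_of_isClosedImmersion_of_surjective ι

variable {X S : Scheme.{u}} (f : X ⟶ S) [IsProper f] [LocallyOfFinitePresentation f] [IsReduced S] {F : X.Modules}
  (hF : CohB1.IsFP F) (hfl : FlatMod.IsFlatOver f F) {r : ℕ} (hr : ∀ s : S, CohIII.fiberRank f F 0 s = r)

include hF hfl hr

theorem ug_id : K87.UBas.UG f F r (𝟙 S) := by
  obtain ⟨Z, ι, hι, -, -, hZ, hrange⟩ := K87.UBasMain.exists_locus f F hF hfl r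
  have h1 : Set.range ι = Set.univ := by
    rw [hrange]
    exact Set.eq_univ_of_forall hr
  have h2 := isIso_of_immersion ι h1
  exact (hZ S (𝟙 S)).1 ⟨inv ι, IsIso.inv_hom_id ι⟩

theorem main_id : FlatMod.IsFinLocFreeOfRank r
      ((Scheme.Modules.pushforward f).obj ((Scheme.Modules.pullback (𝟙 X)).obj F)) ∧
    ∀ (T' : Scheme.{u}) (u : T' ⟶ S) (XT' : Scheme.{u}) (fT' : XT' ⟶ T') (u' : XT' ⟶ X)
      (hT' : IsPullback u' fT' f u), IsIso (CohBC.bc0 f u fT' u' hT'.w ((Scheme.Modules.pullback (𝟙 X)).obj F)) :=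
  (K87.UBasBC.ug_iff (f := f) (E := F) (t := 𝟙 S) (gT := 𝟙 X) (fT := f)
    (IsPullback.of_horiz_isIso ⟨by simp⟩)).1 (ug_id f hF hfl hr)

/-- **Grauert**: `f_* F` is finite locally free of rank `r`. -/
theorem isFinLocFreeOfRank : FlatMod.IsFinLocFreeOfRank r ((Scheme.Modules.pushforward f).obj F) := by
  have h := (main_id f hF hfl hr).1
  intro s
  obtain ⟨U, hsU, ⟨e⟩⟩ := h s
  exact ⟨U, hsU, ⟨(Scheme.Modules.restrictFunctor U.ι).mapIso ((Scheme.Modules.pushforward f).mapIso
    ((Scheme.Modules.pullbackId X).app F).symm) ≪≫ e⟩⟩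

/-- **Grauert**: base change in degree `0`. -/
theorem isIso_bc0 {X' S' : Scheme.{u}} (g : S' ⟶ S) (f' : X' ⟶ S') (g' : X' ⟶ X) (h : IsPullback g' f' f g) :
    IsIso (CohBC.bc0 f g f' g' h.w F) :=
  isIso_bc0_of_iso f g f' g' h.w ((Scheme.Modules.pullbackId X).app F)
    ((main_id f hF hfl hr).2 S' g X' f' g' h)

theorem nonempty_iso {X' S' : Scheme.{u}} (g : S' ⟶ S) (f' : X' ⟶ S') (g' : X' ⟶ X) (h : IsPullback g' f' f g) :
    Nonempty ((Scheme.Modules.pullback g).obj ((Scheme.Modules.pushforward f).obj F) ≅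
      (Scheme.Modules.pushforward f').obj ((Scheme.Modules.pullback g').obj F)) :=
  have := isIso_bc0 f hF hfl hr g f' g' h
  ⟨asIso (CohBC.bc0 f g f' g' h.w F)⟩

end K179.Grauert
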